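import Groth.Prelude.Def_CurvBase
import Mathlib.RingTheory.Kaehler.Basic
import Mathlib.RingTheory.Etale.Kaehler
import Mathlib.RingTheory.Smooth.StandardSmoothCotangent
import Mathlib.RingTheory.Unramified.LocalRing
import Mathlib.RingTheory.Unramified.Field
import Mathlib.RingTheory.RingHom.StandardSmooth
import Mathlib.AlgebraicGeometry.Morphisms.Smooth
import Mathlib.AlgebraicGeometry.Morphisms.Finite
import Mathlib.RingTheory.Localization.AtPrime.Basic
import Groth.Agent.Lib.AffDom.LocalDim
import Groth.Agent.Lib.Transversal10.Dims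

/-!
# A ramified point with separable residue extension has separable residue field
-/

set_option autoImplicit false
set_option backward.isDefEq.respectTransparency false
set_option linter.all false

universe u

open TensorProduct CategoryTheory AlgebraicGeometry IsLocalRing

noncomputable section

namespace GrothLib.TameSep

section Alg

variable {k A B : Type u} [Field k] [CommRing A] [CommRing B] [IsLocalRing A] [IsLocalRing B]
  [Algebra k A] [Algebra k B] [Algebra A B] [IsScalarTower k A B] [IsLocalHom (algebraMap A B)]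

theorem map_maximalIdeal_eq [Algebra.EssFiniteType k B]
    [Algebra.IsSeparable (ResidueField A) (ResidueField B)]
    (hins : ¬ Algebra.IsSeparable k (ResidueField B))
    (hdim : Module.finrank (ResidueField B) (ResidueField B ⊗[B] Ω[B⁄k]) ≤ 1) :
    (maximalIdeal A).map (algebraMap A B) = maximalIdeal B := by
  let L := ResidueField B
  haveI : Algebra.EssFiniteType A B := Algebra.EssFiniteType.of_comp k A B
  haveI : Algebra.EssFiniteType B L := Algebra.EssFiniteType.of_surjective
    (Algebra.ofId B L) residue_surjective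
  haveI : Algebra.EssFiniteType k L := Algebra.EssFiniteType.comp k B L
  haveI : IsScalarTower k (ResidueField A) L := IsScalarTower.of_algebraMap_eq fun c => by
    show residue B (algebraMap k B c) = algebraMap (ResidueField A) L (residue A (algebraMap k A c))
    rw [ResidueField.algebraMap_residue, ← IsScalarTower.algebraMap_apply]
  have hnt : Nontrivial Ω[L⁄k] := by
    by_contra h
    rw [not_nontrivial_iff_subsingleton] at h
    haveI : Algebra.FormallyUnramified k L := ⟨h⟩
    exact hins (Algebra.FormallyUnramified.isSeparable k L)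
  let ψ := KaehlerDifferential.mapBaseChange k B L
  have hψs : Function.Surjective ψ := KaehlerDifferential.mapBaseChange_surjective k B L residue_surjective
  have hψi : Function.Injective ψ := by
    rw [← LinearMap.ker_eq_bot]
    have h1 := LinearMap.finrank_range_add_finrank_ker ψ
    rw [LinearMap.range_eq_top.2 hψs, finrank_top] at h1
    change Module.finrank L (L ⊗[B] Ω[B⁄k]) ≤ 1 at hdim
    have h2 : 0 < Module.finrank L Ω[L⁄k] := Module.finrank_pos
    exact Submodule.finrank_eq_zero.1 (by omega)
  have htop : Submodule.span L (Set.range fun a : A => (1 : L) ⊗ₜ[B] KaehlerDifferential.D k B (algebraMap A B a))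
      = ⊤ := by
    apply Submodule.map_injective_of_injective (f := ψ) hψi
    rw [Submodule.map_top, LinearMap.range_eq_top.2 hψs, Submodule.map_span, eq_top_iff]
    haveI : Algebra.FormallyUnramified (ResidueField A) L := Algebra.FormallyUnramified.of_isSeparable _ _
    rintro ω -
    obtain ⟨z, rfl⟩ : ω ∈ LinearMap.range (KaehlerDifferential.mapBaseChange k (ResidueField A) L) := by
      rw [KaehlerDifferential.range_mapBaseChange, LinearMap.mem_ker]
      exact Subsingleton.elim _ _
    induction z with
    | zero => simp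
    | add a b ha hb => rw [map_add]; exact add_mem ha hb
    | tmul l w =>
      rw [KaehlerDifferential.mapBaseChange_tmul]
      refine Submodule.smul_mem _ _ ?_
      have hw : w ∈ Submodule.span (ResidueField A) (Set.range (KaehlerDifferential.D k (ResidueField A))) := by
        rw [KaehlerDifferential.span_range_derivation]; trivial
      induction hw using Submodule.span_induction with
      | zero => simp
      | add a b _ _ ha hb => rw [map_add]; exact add_mem ha hb
      | smul r a _ ha =>
        rw [LinearMap.map_smul, ← algebraMap_smul L r]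
        exact Submodule.smul_mem _ _ ha
      | mem _ h =>
        obtain ⟨abar, rfl⟩ := h
        obtain ⟨a, rfl⟩ := residue_surjective abar
        rw [KaehlerDifferential.map_D]
        refine Submodule.subset_span ⟨_, ⟨a, rfl⟩, ?_⟩
        rw [KaehlerDifferential.mapBaseChange_tmul, KaehlerDifferential.map_D, one_smul,
          ResidueField.algebraMap_residue]
        rfl
  let π : L ⊗[B] Ω[B⁄k] →ₗ[L] L ⊗[B] Ω[B⁄A] := (KaehlerDifferential.map k A B B).baseChange L
  have hπs : Function.Surjective π := LinearMap.lTensor_surjective L (KaehlerDifferential.map_surjective k A B)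
  have hπ0 : ∀ z, π z = 0 := by
    intro z
    have hz : z ∈ Submodule.span L
        (Set.range fun a : A => (1 : L) ⊗ₜ[B] KaehlerDifferential.D k B (algebraMap A B a)) := by
      rw [htop]; trivial
    induction hz using Submodule.span_induction with
    | zero => simp
    | add a b _ _ ha hb => rw [map_add, ha, hb, add_zero]
    | smul r a _ ha => rw [map_smul, ha, smul_zero]
    | mem _ h =>
      obtain ⟨a, rfl⟩ := h
      simp [π]
  haveI : Subsingleton (L ⊗[B] Ω[B⁄A]) := subsingleton_of_forall_eq 0 fun w => by
    obtain ⟨z, rfl⟩ := hπs w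
    exact hπ0 z
  haveI : Subsingleton Ω[B⁄A] := IsLocalRing.subsingleton_tensorProduct.1 ‹_›
  haveI : Algebra.FormallyUnramified A B := ⟨inferInstance⟩
  exact Algebra.FormallyUnramified.map_maximalIdeal

end Alg

variable (k : Type u) [Field k] {X : Scheme.{u}} [X.Over (Spec (CommRingCat.of k))]
  [SmoothOfRelativeDimension 1 (X ↘ Spec (CommRingCat.of k))]

theorem essFiniteType_and_finrank (x : X) :
    letI := Curv2.stalkAlgebra k X x
    Algebra.EssFiniteType k (X.presheaf.stalk x) ∧
      Module.finrank (ResidueField (X.presheaf.stalk x))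
        (ResidueField (X.presheaf.stalk x) ⊗[X.presheaf.stalk x] Ω[X.presheaf.stalk x⁄k]) ≤ 1 := by
  obtain ⟨V, hV, U, hU, hxU, e, hsm⟩ := SmoothOfRelativeDimension.exists_isStandardSmoothOfRelativeDimension
    (n := 1) (f := X ↘ Spec (CommRingCat.of k)) x
  obtain rfl : V = ⊤ := by
    ext y
    simp only [TopologicalSpace.Opens.coe_top, Set.mem_univ, iff_true]
    haveI : Subsingleton (Spec (CommRingCat.of k)) := inferInstanceAs (Subsingleton (PrimeSpectrum k))
    rw [Subsingleton.elim y ((X ↘ Spec (CommRingCat.of k)) x)]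
    exact e hxU
  let ψ : k →+* Γ(X, U) :=
    (X.presheaf.map (homOfLE (le_top : U ≤ ⊤)).op).hom.comp (Coh.toGlobal (X ↘ Spec (CommRingCat.of k)))
  have hψ : ψ.IsStandardSmoothOfRelativeDimension 1 :=
    (RingHom.isStandardSmoothOfRelativeDimension_respectsIso).2 _
      (Scheme.ΓSpecIso (CommRingCat.of k)).commRingCatIsoToRingEquiv.symm hsm
  letI := ψ.toAlgebra
  haveI : Algebra.IsStandardSmoothOfRelativeDimension 1 k Γ(X, U) := hψ
  haveI : Algebra.IsStandardSmooth k Γ(X, U) := Algebra.IsStandardSmoothOfRelativeDimension.isStandardSmooth 1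
  haveI : Nonempty U := ⟨⟨x, hxU⟩⟩
  letI := Curv2.stalkAlgebra k X x
  letI : Algebra Γ(X, U) (X.presheaf.stalk x) := (X.presheaf.germ U x hxU).hom.toAlgebra
  haveI : IsScalarTower k Γ(X, U) (X.presheaf.stalk x) := IsScalarTower.of_algebraMap_eq fun c => by
    exact (TopCat.Presheaf.germ_res_apply X.presheaf _ _ hxU _).symm
  haveI : IsLocalization.AtPrime (X.presheaf.stalk x) (hU.primeIdealOf ⟨x, hxU⟩).asIdeal :=
    hU.isLocalization_stalk ⟨x, hxU⟩
  haveI : Algebra.EssFiniteType Γ(X, U) (X.presheaf.stalk x) :=
    Algebra.EssFiniteType.of_isLocalization _ (hU.primeIdealOf ⟨x, hxU⟩).asIdeal.primeCompl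
  refine ⟨Algebra.EssFiniteType.comp k Γ(X, U) _, ?_⟩
  have hfr : Module.finrank Γ(X, U) (Ω[Γ(X, U)⁄k]) = 1 :=
    Module.finrank_eq_of_rank_eq (Algebra.IsStandardSmoothOfRelativeDimension.rank_kaehlerDifferential 1)
  let b := (Module.finBasisOfFinrankEq _ _ hfr).ofIsLocalizedModule (X.presheaf.stalk x)
    (hU.primeIdealOf ⟨x, hxU⟩).asIdeal.primeCompl
    (KaehlerDifferential.map k k Γ(X, U) (X.presheaf.stalk x))
  haveI := Module.Free.of_basis b
  rw [Module.finrank_baseChange, Module.finrank_eq_card_basis b, Fintype.card_fin]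

theorem main (Y : Scheme.{u}) [Y.Over (Spec (CommRingCat.of k))]
    [SmoothOfRelativeDimension 1 (Y ↘ Spec (CommRingCat.of k))]
    (f : X ⟶ Y) (hf : f ≫ (Y ↘ Spec (CommRingCat.of k)) = X ↘ Spec (CommRingCat.of k)) (x : X)
    (hne : (maximalIdeal (Y.presheaf.stalk (f.base x))).map (f.stalkMap x).hom ≠ maximalIdeal (X.presheaf.stalk x))
    (hsep : @Algebra.IsSeparable (Y.residueField (f.base x)) (X.residueField x) _ _
      (f.residueFieldMap x).hom.toAlgebra) :
    @Algebra.IsSeparable k (X.residueField x) _ _ (Curv2.resAlgebra k X x) := by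
  letI := Curv2.stalkAlgebra k X x
  letI := Curv2.stalkAlgebra k Y (f.base x)
  letI := (f.stalkMap x).hom.toAlgebra
  haveI : IsScalarTower k (Y.presheaf.stalk (f.base x)) (X.presheaf.stalk x) :=
    IsScalarTower.of_algebraMap_eq fun c => by
      show Curv2.stalkMap k X x c = f.stalkMap x (Curv2.stalkMap k Y (f.base x) c)
      simp only [Curv2.stalkMap, RingHom.coe_comp, Function.comp_apply]
      rw [Scheme.Hom.germ_stalkMap_apply]
      simp only [← hf]
      rfl
  haveI : IsLocalHom (algebraMap (Y.presheaf.stalk (f.base x)) (X.presheaf.stalk x)) :=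
    inferInstanceAs (IsLocalHom (f.stalkMap x).hom)
  obtain ⟨hB, hdim⟩ := essFiniteType_and_finrank k x
  haveI := hB
  have hsep' : Algebra.IsSeparable (ResidueField (Y.presheaf.stalk (f.base x))) (ResidueField (X.presheaf.stalk x)) := by
    letI A₁ : Algebra (Y.residueField (f.base x)) (X.residueField x) := (f.residueFieldMap x).hom.toAlgebra
    haveI : Algebra.IsSeparable (Y.residueField (f.base x)) (X.residueField x) := hsep
    exact Algebra.IsSeparable.of_equiv_equiv
      (RingEquiv.refl (Y.residueField (f.base x)) : Y.residueField (f.base x) ≃+* ResidueField (Y.presheaf.stalk (f.base x)))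
      (RingEquiv.refl (X.residueField x) : X.residueField x ≃+* ResidueField (X.presheaf.stalk x))
      (RingHom.ext fun z => by
        obtain ⟨a, rfl⟩ := residue_surjective (R := Y.presheaf.stalk (f.base x)) z
        rfl)
  haveI := hsep'
  by_contra hins
  refine hne (map_maximalIdeal_eq (k := k) (fun h => hins ?_) hdim)
  letI : Algebra k (X.residueField x) := Curv2.resAlgebra k X x
  haveI := h
  exact Algebra.IsSeparable.of_equiv_equiv (RingEquiv.refl k)
    (RingEquiv.refl (ResidueField (X.presheaf.stalk x)) : ResidueField (X.presheaf.stalk x) ≃+* X.residueField x)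
    (RingHom.ext fun z => rfl)

include k in
theorem maximalIdeal_ne_bot (x : X) (hx : IsClosed ({x} : Set X)) :
    maximalIdeal (X.presheaf.stalk x) ≠ ⊥ := by
  intro h
  haveI : Smooth (X ↘ Spec (CommRingCat.of k)) := SmoothOfRelativeDimension.smooth 1 _
  set p := X ↘ Spec (CommRingCat.of k)
  have hloc : FlatMor.localDim X x = ((1 : ℕ) : WithBot ℕ∞) := by
    rw [← FibreDimAt6.fibreDimAt_eq_of_smooth 1 p x]
    haveI : Subsingleton (Spec (CommRingCat.of k)) := inferInstanceAs (Subsingleton (PrimeSpectrum k))
    have hu : p ⁻¹' {p x} = Set.univ := Set.eq_univ_of_forall fun z => Subsingleton.elim (p z) (p x)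
    let ψ : ↥(p.fiber (p x)) ≃ₜ ↥X :=
      ((p.fiberHomeo (p x)).trans (Homeomorph.setCongr hu)).trans (Homeomorph.Set.univ X)
    have hx' : ψ (p.asFiber x) = x := Scheme.Hom.fiberι_fiberHomeo_symm p (p x) ⟨x, rfl⟩
    have h := GrothLib.Chev28.localDim_homeomorph ψ (p.asFiber x)
    rwa [hx'] at h
  rw [GrothLib.AffDom.localDim_eq p x,
    ringKrullDim_eq_zero_of_isField (IsLocalRing.isField_iff_maximalIdeal_eq.2 h), add_zero] at hloc
  have h0 : GrothLib.AffDom.ptDim x ≤ 0 := by
    unfold GrothLib.AffDom.ptDim
    rw [show closure ({x} : Set X) = {x} from hx.closure_eq]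
    haveI : Subsingleton ({x} : Set X) := ⟨fun a b => Subtype.ext (a.2.trans b.2.symm)⟩
    refine Order.krullDim_nonpos_iff_forall_isMax.2 fun C D _ => ?_
    obtain ⟨c, hc⟩ := C.isIrreducible.nonempty
    intro z _
    rw [Subsingleton.elim z c]
    exact hc
  rw [hloc] at h0
  norm_num at h0

end GrothLib.TameSep
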